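import Cfsg.Agent.H56.DP.Congr
import Cfsg.Agent.H553.OddHall
import Cfsg.Agent.H947.El.Ree

/-!
# S4247: the Ree groups `²G₂(q)` have no configuration if `3 ∉ π` (helper56)

Subgroups of order prime to 6 of `²G₂(q)` are nilpotent.
-/

set_option autoImplicit false
set_option linter.unusedSectionVars false

namespace Cfsg.Agent.H56.DP

open Subgroup Cfsg Cfsg.Agent.H988.CPi Cfsg.Agent.H571.RV Cfsg.Agent.H817.DPi
open Cfsg.Agent.H947.El

universe u

theorem card_mul_relIndex {G : Type*} [Group G] {H K : Subgroup G} (h : H ≤ K) :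
    Nat.card H * H.relIndex K = Nat.card K := by
  rw [← Subgroup.relIndex_bot_left, ← Subgroup.relIndex_bot_left]
  exact Subgroup.relIndex_mul_relIndex _ _ _ bot_le h

/-- **nilpotency of solvable `π`-subgroups** -/
theorem nilp_of_norm {G : Type*} [Group G] [Finite G] {π : Set ℕ} (P : Subgroup G) (hP : PiN π (Nat.card P))
    (hsol : Group.IsSolvable P)
    (hcyc : ∀ p ∈ π, p.Prime → ∀ E : Subgroup G, IsPGroup p E → IsCyclic E)
    (hN : ∀ p ∈ π, p.Prime → ∀ E : Subgroup G, Nat.card E = p → ∃ A : Subgroup G, IsCyclic A ∧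
      A ≤ normalizer (E : Set G) ∧ PiN' π (A.relIndex (normalizer (E : Set G)))) : Group.IsNilpotent P := by
  rcases subsingleton_or_nontrivial P with hs | hn
  · infer_instance
  obtain ⟨p, E, hp, hE, hE1, hEP, hcomm, hexp, hPE⟩ := exists_elem P
  have hfp : Fact p.Prime := ⟨hp⟩
  have hcE : Nat.card E ≠ 1 := fun h => hE1 (Subgroup.card_eq_one.1 h)
  obtain ⟨k, hk⟩ := (IsPGroup.iff_card (p := p)).1 hE
  have hk0 : k ≠ 0 := by
    rintro rfl
    exact hcE (by rw [hk, pow_zero])
  have hpE : p ∣ Nat.card E := by rw [hk]; exact dvd_pow_self p hk0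
  have hpπ : p ∈ π := hP p hp (hpE.trans (Subgroup.card_dvd_of_le hEP))
  have hEc := hcyc p hpπ hp E hE
  have hEp : Nat.card E = p := by
    have h1 : Monoid.exponent E ∣ p := by
      rw [Monoid.exponent_dvd_iff_forall_pow_eq_one]
      intro y
      exact Subtype.ext (hexp y y.2)
    rw [IsCyclic.exponent_eq_card] at h1
    exact ((Nat.dvd_prime hp).1 h1).resolve_left hcE
  obtain ⟨A, hA, hAN, hidx⟩ := hN p hpπ hp E hEp
  set N := normalizer (E : Set G) with hNd
  -- a Hall subgroup of `A`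
  have hAsol : Group.IsSolvable A := by
    let _ := IsCyclic.commGroup (α := A)
    infer_instance
  obtain ⟨Y, hY⟩ := Cfsg.Agent.H553.OddHall.exists_isPiHall (X := A) hAsol π
  set H := Y.map A.subtype with hH
  have hHA : H ≤ A := Subgroup.map_subtype_le Y
  have hHN : H ≤ N := hHA.trans hAN
  have hHcyc : IsCyclic H := isCyclic_of_injective (Subgroup.inclusion hHA) (Subgroup.inclusion_injective hHA)
  have hHc : Nat.card H = Nat.card Y := Nat.card_congr (Y.equivMapOfInjective _ A.subtype_injective).symm.toEquiv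
  have hrel : H.relIndex A = Y.index := by
    have h1 := card_mul_relIndex hHA
    have h2 := Y.card_mul_index
    rw [hHc] at h1
    exact Nat.eq_of_mul_eq_mul_left Nat.card_pos (h1.trans h2.symm)
  have hHall : IsPiHall π (H.subgroupOf N) := by
    refine ⟨?_, ?_⟩
    · intro s hs hd
      rw [Nat.card_congr (Subgroup.subgroupOfEquivOfLe hHN).toEquiv, hHc] at hd
      exact hY.1 s hs hd
    · intro s hs hsπ hd
      have h1 : H.relIndex A * A.relIndex N = H.relIndex N := Subgroup.relIndex_mul_relIndex _ _ _ hHA hAN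
      have h2 : s ∣ H.relIndex N := hd
      rw [← h1, hrel] at h2
      rcases hs.dvd_mul.1 h2 with h3 | h3
      · exact hY.2 s hs hsπ h3
      · exact hidx s hs hsπ h3
  have hnil : Group.IsNilpotent (H.subgroupOf N) := by
    have h1 : Group.IsNilpotent H := by
      let _ := IsCyclic.commGroup (α := H)
      infer_instance
    exact Group.nilpotent_of_mulEquiv (Subgroup.subgroupOfEquivOfLe hHN).symm
  have h1 : Group.IsNilpotent (P.subgroupOf N) := by
    refine nilp_of_hall hHall hnil ?_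
    rw [Nat.card_congr (Subgroup.subgroupOfEquivOfLe hPE).toEquiv]
    exact hP
  exact Group.nilpotent_of_mulEquiv (Subgroup.subgroupOfEquivOfLe hPE)

theorem nilp_ree {R : Type*} [Group R] [Finite R] {m q r : ℕ} (h : ReeF R m q r) {π : Set ℕ} (h2 : 2 ∉ π) (h3 : 3 ∉ π)
    (P : Subgroup R) (hP : PiN π (Nat.card P)) : Group.IsNilpotent P := by
  have hgt : ∀ p ∈ π, p.Prime → 3 < p := by
    intro p hp hpp
    have h4 := hpp.two_le
    rcases Nat.lt_or_ge 3 p with h5 | h5
    · exact h5
    · interval_cases p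
      · exact absurd hp h2
      · exact absurd hp h3
  have hcN : ∀ c, c ∣ 24 → PiN' π c := by
    intro c hc s hs hsπ hd
    have h5 := hgt s hsπ hs
    have h6 : s ∣ 2 ^ 3 * 3 := hd.trans hc
    rcases hs.dvd_mul.1 h6 with h7 | h7
    · have := (Nat.prime_dvd_prime_iff_eq hs Nat.prime_two).1 (hs.dvd_of_dvd_pow h7)
      omega
    · have := (Nat.prime_dvd_prime_iff_eq hs Nat.prime_three).1 h7
      omega
  refine nilp_of_norm P hP (Cfsg.Agent.H553.OddHall.solvable_of_pi h2 hP) (fun p hpπ hp => h.cyc p hp (hgt p hpπ hp)) ?_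
  intro p hpπ hp E hE
  obtain ⟨A, hA, hEA, hcase⟩ := h.norm p hp (hgt p hpπ hp) E hE
  have hAN : A ≤ normalizer (E : Set R) := by
    intro a ha
    rw [Subgroup.mem_normalizer_iff_map_conj_eq]
    have h5 : ∀ x ∈ E, a * x * a⁻¹ = x := by
      intro x hx
      have h6 := hA.commGroup.mul_comm (⟨a, ha⟩ : A) ⟨x, hEA hx⟩
      have h7 : a * x = x * a := congrArg Subtype.val h6
      rw [h7, mul_inv_cancel_right]
    ext y
    constructor
    · rintro ⟨x, hx, rfl⟩
      show a * x * a⁻¹ ∈ E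
      rw [h5 x hx]
      exact hx
    · intro hy
      exact ⟨y, hy, h5 y hy⟩
  refine ⟨A, hA, hAN, ?_⟩
  have hmul := card_mul_relIndex hAN
  have hpos : 0 < Nat.card A := Nat.card_pos
  have key : ∀ c, Nat.card (normalizer (E : Set R)) = c * Nat.card A → A.relIndex (normalizer (E : Set R)) = c := by
    intro c hc
    rw [hc, mul_comm c] at hmul
    exact Nat.eq_of_mul_eq_mul_left hpos hmul
  rcases hcase with ⟨-, h5⟩ | ⟨-, h5⟩ | ⟨-, h5⟩
  · rw [key _ h5]; exact hcN _ (by norm_num)
  · rw [key _ h5]; exact hcN _ (by norm_num)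
  · rw [key _ h5]; exact hcN _ (by norm_num)

/-- **²G₂** -/
theorem noCfg_ree {π : Set ℕ} (h3 : 3 ∉ π) {S : Type u} [Group S] (h : Lie.IsoRee S) : NoCfg π S := by
  obtain ⟨K, iK, iK', m, hm, hK, ⟨e⟩⟩ := h
  refine NoCfg.of_equiv e ?_
  intro P K' B hc
  obtain ⟨ρ, n⟩ := exists_reeN m hm
  have F := reeF hm hK n
  exact hc.nnil (nilp_ree F hc.two h3 P hc.hall.1)

end Cfsg.Agent.H56.DP
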