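import Cfsg.Agent.H56.DP.Congr
import Cfsg.Agent.H56.Exc.SzRow
import Cfsg.Agent.S0205

/-!
# S4247: the Suzuki groups have no configuration (helper56)

Subgroups of odd order of `Sz(q)` are cyclic.
-/

set_option autoImplicit false
set_option linter.unusedSectionVars false

namespace Cfsg.Agent.H56.DP

open Subgroup Cfsg Cfsg.Agent.H988.CPi Cfsg.Agent.H571.RV Cfsg.Agent.H817.DPi
open Cfsg.Agent.H761.SzCls

universe u

variable {F : Type*} [Field F] [Fintype F] {m : ℕ}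

/-- elements of odd order lie in tori -/
theorem exists_isTor (hm : 1 ≤ m) (hF : Fintype.card F = 2 ^ (2 * m + 1)) {u : Cfsg.Sz F m} (hu : u ≠ 1)
    (ho : Odd (orderOf u)) : ∃ (V : Subgroup (Cfsg.Sz F m)) (i : Fin 3), IsTor V i ∧ u ∈ V := by
  obtain ⟨V, ⟨hV, huV⟩, -⟩ := S2238.result hm hF u hu
  rcases hV with ⟨P, rfl⟩ | ⟨h1, h2⟩
  · exfalso
    obtain ⟨k, hk⟩ := (IsPGroup.iff_orderOf.1 P.isPGroup') ⟨u, huV⟩
    rw [Subgroup.orderOf_mk] at hk
    rw [hk] at ho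
    rcases Nat.eq_zero_or_pos k with rfl | hk0
    · rw [pow_zero, orderOf_eq_one_iff] at hk
      exact hu hk
    · rw [Nat.odd_pow_iff (by omega)] at ho
      exact absurd ho (by decide)
  · obtain ⟨i, hi⟩ := mem_set_iff.1 h2
    exact ⟨V, i, ⟨h1, hi⟩, huV⟩

theorem cyclic_of_odd (hm : 1 ≤ m) (hF : Fintype.card F = 2 ^ (2 * m + 1)) (P : Subgroup (Cfsg.Sz F m))
    (hP : Odd (Nat.card P)) : IsCyclic P := by
  have hfin := finite_Sz F m
  have hsol : Group.IsSolvable P := Cfsg.Agent.S0205.result hP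
  rcases subsingleton_or_nontrivial P with hs | hn
  · infer_instance
  obtain ⟨p, E, hp, hE, hE1, hEP, hcomm, hexp, hPE⟩ := exists_elem P
  obtain ⟨u, hu⟩ := Subgroup.ne_bot_iff_exists_ne_one.1 hE1
  have hu1 : (u : Cfsg.Sz F m) ≠ 1 := fun h => hu (Subtype.ext h)
  have hodd : ∀ y ∈ P, Odd (orderOf y) := fun y hy => hP.of_dvd_nat (Subgroup.orderOf_dvd_natCard _ hy)
  obtain ⟨V, i, hV, huV⟩ := exists_isTor hm hF hu1 (hodd u (hEP u.2))
  have hcent := hV.cent hm hF huV hu1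
  have hPV : P ≤ normalizer (V : Set (Cfsg.Sz F m)) := by
    intro y hy
    have h1 : y * u * y⁻¹ ∈ E := (Subgroup.mem_normalizer_iff.1 (hPE hy) u).1 u.2
    have h2 : y * u * y⁻¹ ∈ V := by
      rw [← hcent, mem_centralizer_singleton_iff]
      exact hcomm _ h1 _ u.2
    have h3 : y * u * y⁻¹ ≠ 1 := fun h => hu1 (by rwa [mul_inv_eq_one, mul_eq_left] at h)
    have h4 : V.map (MulAut.conj y).toMonoidHom = V :=
      (hV.map y).eq hm hF hV ⟨u, huV, rfl⟩ h2 h3
    rw [Subgroup.mem_normalizer_iff_map_conj_eq]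
    exact h4
  have h5 : P ≤ V := by
    refine le_of_coprime hPV (c := cT i) (by rw [card_norm hm hF hV, hV.2]) ?_
    have h6 : Nat.Coprime (Nat.card P) (2 ^ 2) := (Nat.coprime_two_right.2 hP).pow_right 2
    exact h6.coprime_dvd_right (cT_dvd i)
  have := hV.1
  exact isCyclic_of_injective (Subgroup.inclusion h5) (Subgroup.inclusion_injective h5)

/-- **Sz** -/
theorem noCfg_sz {π : Set ℕ} (hm : 1 ≤ m) (hF : Fintype.card F = 2 ^ (2 * m + 1)) : NoCfg π (Cfsg.Sz F m) := by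
  intro P K B hc
  have hfin := finite_Sz F m
  have hodd : Odd (Nat.card P) := by
    rw [← Nat.not_even_iff_odd, even_iff_two_dvd]
    exact fun h => hc.two (hc.hall.1 2 Nat.prime_two h)
  have hcyc := cyclic_of_odd hm hF P hodd
  apply hc.nnil
  let _ := IsCyclic.commGroup (α := P)
  infer_instance

theorem noCfg_suzuki {π : Set ℕ} {S : Type u} [Group S] (h : Lie.IsoSuzuki S) : NoCfg π S := by
  obtain ⟨F, iF, iF', m, hm, hF, ⟨e⟩⟩ := h
  obtain ⟨f⟩ := Cfsg.Agent.OddCyclic.ClaimC.SzIso.iso hm hF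
  exact (noCfg_sz hm hF).of_equiv (e.trans f.symm)

end Cfsg.Agent.H56.DP
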